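import Groth.Agent.Lib.TorsorSch25.Extend
import Groth.Agent.Lib.SchDesc12.Effective
import Groth.Agent.Lib.TorsorSch25.Transfer

/-!
# The scheme of equivariant morphisms from a torsor to a scheme with action

For a torsor `P` (flat, surjective, quasi-compact over the base) and an affine `Q` with an action, the
scheme of equivariant morphisms is obtained by effective descent of `P ×_S Q` along `P ⟶ S`.
-/

set_option autoImplicit false
set_option backward.isDefEq.respectTransparency false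
set_option backward.isDefEq.respectTransparency.types false

universe u

open CategoryTheory CategoryTheory.Limits MonoidalCategory CartesianMonoidalCategory MonObj AlgebraicGeometry

noncomputable section

namespace Groth.Agent.IsomTors25

open TorsorSch25

variable {S : Scheme.{u}} {G P Q : Over S} [GrpObj G] {a : AlgGrp.Action G P} (hP : NonAbH1.IsPseudoTorsorSch a)
  (b : AlgGrp.Action G Q)

/-- The element carrying `x` to `y`. -/
def diff {T : Over S} (x y : T ⟶ P) : T ⟶ G := (existsUnique_smul hP x y).choose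

theorem diff_spec {T : Over S} (x y : T ⟶ P) : lift (diff hP x y) x ≫ a.act = y :=
  (existsUnique_smul hP x y).choose_spec.1

theorem diff_self {T : Over S} (x : T ⟶ P) : diff hP x x = 1 :=
  smul_cancel hP ((diff_spec hP x x).trans (AlgGrp.Action.lift_one_act a x).symm)

theorem diff_comp {T : Over S} (x y z : T ⟶ P) : diff hP y z * diff hP x y = diff hP x z :=
  smul_cancel hP (x := x) (by rw [AlgGrp.Action.lift_mul_act, diff_spec, diff_spec, diff_spec])

theorem diff_nat {T T' : Over S} (c : T' ⟶ T) (x y : T ⟶ P) : c ≫ diff hP x y = diff hP (c ≫ x) (c ≫ y) :=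
  smul_cancel hP (x := c ≫ x) (by rw [← comp_lift_assoc, diff_spec, diff_spec])

omit [GrpObj G] in
/-- A point of `P ×_S Q` as a point of `Q`. -/
def toPt {T : Over S} (x : T ⟶ P) (v : Desc.Lifts (Over.mk (pullback.fst P.hom Q.hom)) x.left) : T ⟶ Q :=
  Over.homMk (v.1 ≫ pullback.snd P.hom Q.hom) (by
    have e : v.1 ≫ pullback.fst P.hom Q.hom = x.left := v.2
    rw [Category.assoc, ← pullback.condition, reassoc_of% e]
    exact Over.w x)

omit [GrpObj G] in
/-- A point of `Q` as a point of `P ×_S Q`. -/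
def ofPt {T : Over S} (x : T ⟶ P) (w : T ⟶ Q) : Desc.Lifts (Over.mk (pullback.fst P.hom Q.hom)) x.left :=
  ⟨pullback.lift x.left w.left ((Over.w x).trans (Over.w w).symm), pullback.lift_fst _ _ _⟩

omit [GrpObj G] in
theorem toPt_ofPt {T : Over S} (x : T ⟶ P) (w : T ⟶ Q) : toPt x (ofPt x w) = w :=
  Over.OverMorphism.ext (pullback.lift_snd _ _ _)

omit [GrpObj G] in
theorem ofPt_toPt {T : Over S} (x : T ⟶ P) (v : Desc.Lifts (Over.mk (pullback.fst P.hom Q.hom)) x.left) :
    ofPt x (toPt x v) = v := by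
  refine Subtype.ext (pullback.hom_ext ?_ ?_)
  · exact (pullback.lift_fst _ _ _).trans v.2.symm
  · exact pullback.lift_snd _ _ _

omit [GrpObj G] in
theorem ofPt_comp {T T' : Over S} (c : T' ⟶ T) {x : T ⟶ P} {x' : T' ⟶ P} (hx : c ≫ x = x') (w : T ⟶ Q) :
    (ofPt x' (c ≫ w)).1 = c.left ≫ (ofPt x w).1 := by
  subst hx
  refine pullback.hom_ext ?_ ?_ <;> simp [ofPt]

omit [GrpObj G] in
theorem toPt_comp {T T' : Over S} (c : T' ⟶ T) {x : T ⟶ P} {x' : T' ⟶ P}
    (v : Desc.Lifts (Over.mk (pullback.fst P.hom Q.hom)) x.left)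
    (v' : Desc.Lifts (Over.mk (pullback.fst P.hom Q.hom)) x'.left) (hv : v'.1 = c.left ≫ v.1) :
    toPt x' v' = c ≫ toPt x v :=
  Over.OverMorphism.ext ((congrArg (fun q => q ≫ pullback.snd P.hom Q.hom) hv).trans (Category.assoc _ _ _))

/-- The gluing bijection. -/
def gl {T : Over S} (x y : T ⟶ P) :
    Desc.Lifts (Over.mk (pullback.fst P.hom Q.hom)) x.left ≃ Desc.Lifts (Over.mk (pullback.fst P.hom Q.hom)) y.left where
  toFun v := ofPt y (lift (diff hP x y) (toPt x v) ≫ b.act)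
  invFun v := ofPt x (lift (diff hP y x) (toPt y v) ≫ b.act)
  left_inv v := by
    show ofPt x (lift _ (toPt y (ofPt y _)) ≫ b.act) = v
    rw [toPt_ofPt, ← AlgGrp.Action.lift_mul_act, diff_comp, diff_self, AlgGrp.Action.lift_one_act, ofPt_toPt]
  right_inv v := by
    show ofPt y (lift _ (toPt x (ofPt x _)) ≫ b.act) = v
    rw [toPt_ofPt, ← AlgGrp.Action.lift_mul_act, diff_comp, diff_self, AlgGrp.Action.lift_one_act, ofPt_toPt]

theorem gl_nat {T T' : Over S} (c : T' ⟶ T) {x y : T ⟶ P} {x' y' : T' ⟶ P} (hx : c ≫ x = x') (hy : c ≫ y = y')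
    (v : Desc.Lifts (Over.mk (pullback.fst P.hom Q.hom)) x.left)
    (v' : Desc.Lifts (Over.mk (pullback.fst P.hom Q.hom)) x'.left) (hv : v'.1 = c.left ≫ v.1) :
    (gl hP b x' y' v').1 = c.left ≫ (gl hP b x y v).1 := by
  show (ofPt y' (lift _ (toPt x' v') ≫ b.act)).1 = c.left ≫ (ofPt y (lift _ (toPt x v) ≫ b.act)).1
  rw [toPt_comp c v v' hv, ← ofPt_comp c hy, comp_lift_assoc, diff_nat, hx, hy]

theorem gl_self {T : Over S} (x : T ⟶ P) (v : Desc.Lifts (Over.mk (pullback.fst P.hom Q.hom)) x.left) :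
    gl hP b x x v = v := by
  show ofPt x _ = v
  rw [diff_self, AlgGrp.Action.lift_one_act, ofPt_toPt]

theorem gl_comp {T : Over S} (x y z : T ⟶ P) (v : Desc.Lifts (Over.mk (pullback.fst P.hom Q.hom)) x.left) :
    gl hP b y z (gl hP b x y v) = gl hP b x z v := by
  show ofPt z (lift _ (toPt y (ofPt y _)) ≫ b.act) = ofPt z _
  rw [toPt_ofPt, ← AlgGrp.Action.lift_mul_act, diff_comp]

/-- The descent datum on `P ×_S Q` along `P ⟶ S`. -/
def datum : Desc.SchDDFam (fun _ : PUnit.{u + 1} => P.hom) where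
  obj _ := Over.mk (pullback.fst P.hom Q.hom)
  φ T _ _ x₀ x₁ h :=
    gl hP b (T := Over.mk (x₀ ≫ P.hom)) (Over.homMk x₀ : Over.mk (x₀ ≫ P.hom) ⟶ P)
      (Over.homMk x₁ h.symm : Over.mk (x₀ ≫ P.hom) ⟶ P)
  φ_natural T T' g _ _ x₀ x₁ h y₀ y₁ hy₀ hy₁ h' v v' hv' := by
    let A : Over.mk (y₀ ≫ P.hom) ⟶ Over.mk (x₀ ≫ P.hom) :=
      Over.homMk g ((Category.assoc _ _ _).symm.trans (congrArg (fun q => q ≫ P.hom) hy₀))
    exact gl_nat hP b A (x := (Over.homMk x₀ : Over.mk (x₀ ≫ P.hom) ⟶ P))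
      (y := (Over.homMk x₁ h.symm : Over.mk (x₀ ≫ P.hom) ⟶ P))
      (x' := (Over.homMk y₀ : Over.mk (y₀ ≫ P.hom) ⟶ P))
      (y' := (Over.homMk y₁ h'.symm : Over.mk (y₀ ≫ P.hom) ⟶ P))
      (Over.OverMorphism.ext hy₀) (Over.OverMorphism.ext hy₁) v v' hv'
  φ_self T _ x v := gl_self hP b (T := Over.mk (x ≫ P.hom)) (Over.homMk x) v
  φ_comp T _ _ _ x₀ x₁ x₂ h₀₁ h₁₂ v := by
    let X₀ : Over.mk (x₀ ≫ P.hom) ⟶ P := Over.homMk x₀
    let X₁ : Over.mk (x₀ ≫ P.hom) ⟶ P := Over.homMk x₁ h₀₁.symm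
    let X₂ : Over.mk (x₀ ≫ P.hom) ⟶ P := Over.homMk x₂ (h₁₂.symm.trans h₀₁.symm)
    let Y₁ : Over.mk (x₁ ≫ P.hom) ⟶ P := Over.homMk x₁
    let Y₂ : Over.mk (x₁ ≫ P.hom) ⟶ P := Over.homMk x₂ h₁₂.symm
    let A : Over.mk (x₀ ≫ P.hom) ⟶ Over.mk (x₁ ≫ P.hom) :=
      Over.homMk (𝟙 T) ((Category.id_comp _).trans h₀₁.symm)
    have key := gl_nat hP b A (x := Y₁) (y := Y₂) (x' := X₁) (y' := X₂)
      (Over.OverMorphism.ext (Category.id_comp _)) (Over.OverMorphism.ext (Category.id_comp _))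
      (gl hP b X₀ X₁ v) (gl hP b X₀ X₁ v) (Category.id_comp _).symm
    rw [gl_comp] at key
    exact Subtype.ext (key.trans (Category.id_comp _)).symm

/-- A scheme whose points are the equivariant morphisms, given by their values at points of `P`. -/
structure Isom where
  /-- the scheme -/
  U : Over S
  /-- evaluation -/
  coord : ∀ {T : Over S}, (T ⟶ P) → (T ⟶ U) → (T ⟶ Q)
  coord_nat : ∀ {T T' : Over S} (c : T' ⟶ T) (x : T ⟶ P) (u : T ⟶ U),
    coord (c ≫ x) (c ≫ u) = c ≫ coord x u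
  coord_bij : ∀ {T : Over S} (x : T ⟶ P), Function.Bijective (coord x)
  coord_change : ∀ {T : Over S} (x x' : T ⟶ P) (u : T ⟶ U),
    coord x' u = lift (diff hP x x') (coord x u) ≫ b.act
  finite_bc : ∀ [IsFinite Q.hom], IsFinite (pullback.fst P.hom U.hom)

/-- Effective descent of the scheme of equivariant morphisms. -/
theorem exists_isom [Flat P.hom] [Surjective P.hom] [QuasiCompact P.hom] [IsAffineHom Q.hom] :
    Nonempty (Isom hP b) := by
  obtain ⟨U, ⟨e⟩⟩ := SchDesc12.isEffective_of_isAffineHom (D := datum hP b)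
    (SchDesc12.single_mem_fpqc P.hom) (fun _ => by
    show IsAffineHom (pullback.fst P.hom Q.hom)
    exact MorphismProperty.pullback_fst _ _ ‹IsAffineHom Q.hom›)
  let ee : Over.mk (pullback.fst P.hom U.hom) ≅ Over.mk (pullback.fst P.hom Q.hom) :=
    ⟨e.hom.hom ⟨⟩, e.inv.hom ⟨⟩, congrFun (congrArg Desc.SchDDFam.Hom.hom e.hom_inv_id) ⟨⟩,
      congrFun (congrArg Desc.SchDDFam.Hom.hom e.inv_hom_id) ⟨⟩⟩
  let toU : ∀ {T : Over S} (x : T ⟶ P) (y : T ⟶ U),
      Desc.Lifts (Over.mk (pullback.fst P.hom U.hom)) x.left := fun {T} x y =>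
    ⟨pullback.lift x.left y.left ((Over.w x).trans (Over.w y).symm), pullback.lift_fst _ _ _⟩
  let co : ∀ {T : Over S}, (T ⟶ P) → (T ⟶ U) → (T ⟶ Q) := fun {T} x y =>
    toPt x ⟨(toU x y).1 ≫ ee.hom.left, by rw [Category.assoc, Over.w ee.hom]; exact (toU x y).2⟩
  refine ⟨⟨U, @co, ?_, ?_, ?_, ?_⟩⟩
  · intro T T' c x y
    refine Over.OverMorphism.ext ?_
    show ((toU (c ≫ x) (c ≫ y)).1 ≫ _) ≫ _ = c.left ≫ ((toU x y).1 ≫ _) ≫ _
    have : (toU (c ≫ x) (c ≫ y)).1 = c.left ≫ (toU x y).1 := pullback.hom_ext (by simp [toU]) (by simp [toU])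
    rw [this]
    simp only [Category.assoc]
  · intro T x
    have hcancel : ee.hom.left ≫ ee.inv.left = 𝟙 _ := by rw [← Over.comp_left, ee.hom_inv_id]; rfl
    have hcancel' : ee.inv.left ≫ ee.hom.left = 𝟙 _ := by rw [← Over.comp_left, ee.inv_hom_id]; rfl
    refine ⟨fun y y' h => ?_, fun w => ?_⟩
    · have h1 := congrArg (fun q => (ofPt x q).1 ≫ ee.inv.left) h
      simp only [co, ofPt_toPt] at h1
      rw [Category.assoc, Category.assoc, hcancel, Category.comp_id, Category.comp_id] at h1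
      exact Over.OverMorphism.ext (by simpa [toU] using congrArg (fun v => v ≫ pullback.snd P.hom U.hom) h1)
    · let v := (ofPt x w).1 ≫ ee.inv.left
      have hv : v ≫ pullback.fst P.hom U.hom = x.left := by
        rw [Category.assoc]
        exact (congrArg ((ofPt x w).1 ≫ ·) (Over.w ee.inv)).trans (ofPt x w).2
      let y₀ : T ⟶ U := Over.homMk (v ≫ pullback.snd P.hom U.hom) (by
        rw [Category.assoc, ← pullback.condition, reassoc_of% hv]
        exact Over.w x)
      refine ⟨y₀, ?_⟩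
      have hv' : (toU x y₀).1 = v := pullback.hom_ext ((pullback.lift_fst _ _ _).trans hv.symm) (pullback.lift_snd _ _ _)
      refine Eq.trans ?_ (toPt_ofPt x w)
      refine congrArg (toPt x) (Subtype.ext ?_)
      show (toU x y₀).1 ≫ ee.hom.left = _
      rw [hv']
      exact (Category.assoc _ _ _).trans ((congrArg ((ofPt x w).1 ≫ ·) hcancel').trans (Category.comp_id _))
  · intro T x x' y
    have hh : x.left ≫ P.hom = x'.left ≫ P.hom := (Over.w x).trans (Over.w x').symm
    let px : Desc.Lifts (Over.mk (pullback.fst P.hom Q.hom)) x.left :=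
      ⟨(toU x y).1 ≫ ee.hom.left, by rw [Category.assoc, Over.w ee.hom]; exact (toU x y).2⟩
    let px' : Desc.Lifts (Over.mk (pullback.fst P.hom Q.hom)) x'.left :=
      ⟨(toU x' y).1 ≫ ee.hom.left, by rw [Category.assoc, Over.w ee.hom]; exact (toU x' y).2⟩
    have hc := e.hom.comm (i := ⟨⟩) (j := ⟨⟩) x.left x'.left hh (toU x y) px rfl
    have hcan : ((Desc.canonicalDDFam (fun _ : PUnit.{u + 1} => P.hom) U).φ (i := ⟨⟩) (j := ⟨⟩) x.left x'.left hh (toU x y)).1 = (toU x' y).1 :=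
      pullback.hom_ext (by simp [Desc.canonicalDDFam, toU]) (by simp [Desc.canonicalDDFam, toU])
    have hc2 : ((datum hP b).φ (i := ⟨⟩) (j := ⟨⟩) x.left x'.left hh px).1 = px'.1 :=
      hc.trans (congrArg (fun v => v ≫ ee.hom.left) hcan)
    let A : T ⟶ Over.mk (x.left ≫ P.hom) := Over.homMk (𝟙 _) ((Category.id_comp _).trans (Over.w x))
    let X₀ : Over.mk (x.left ≫ P.hom) ⟶ P := Over.homMk x.left
    let X₁ : Over.mk (x.left ≫ P.hom) ⟶ P := Over.homMk x'.left hh.symm
    have key := gl_nat hP b A (x := X₀) (y := X₁) (x' := x) (y' := x')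
      (Over.OverMorphism.ext (Category.id_comp _)) (Over.OverMorphism.ext (Category.id_comp _))
      px px (Category.id_comp _).symm
    have h2 : gl hP b x x' px = px' := Subtype.ext ((key.trans (Category.id_comp _)).trans hc2)
    show toPt x' px' = _
    rw [← h2]
    exact toPt_ofPt x' _
  · intro hfin
    haveI : IsFinite (pullback.fst P.hom Q.hom) := MorphismProperty.pullback_fst _ _ hfin
    haveI : IsIso ee.hom.left := ⟨ee.inv.left, (congrArg (fun q => q.left) ee.hom_inv_id : _), (congrArg (fun q => q.left) ee.inv_hom_id : _)⟩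
    rw [show pullback.fst P.hom U.hom = ee.hom.left ≫ pullback.fst P.hom Q.hom from (Over.w ee.hom).symm]
    infer_instance

variable {hP b}

theorem Isom.isFinite (I : Isom hP b) [Flat P.hom] [Surjective P.hom] [QuasiCompact P.hom] [IsFinite Q.hom] :
    IsFinite I.U.hom := by
  haveI := FpqcDesc.descendsAlong_isFinite.{u}
  exact MorphismProperty.of_pullback_fst_of_descendsAlong (P := @IsFinite)
    (Q := @Surjective ⊓ @Flat ⊓ @QuasiCompact) ⟨⟨inferInstance, inferInstance⟩, inferInstance⟩ I.finite_bc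

/-- A section of the scheme of equivariant morphisms gives an equivariant morphism. -/
theorem Isom.exists_hom (I : Isom hP b) (s : 𝟙_ (Over S) ⟶ I.U) :
    ∃ φ : P ⟶ Q, a.act ≫ φ = (G ◁ φ) ≫ b.act := by
  refine ⟨I.coord (𝟙 P) (toUnit P ≫ s), ?_⟩
  have hd : diff hP (snd G P) a.act = fst G P :=
    smul_cancel hP (x := snd G P) ((diff_spec hP _ _).trans (by rw [lift_fst_snd, Category.id_comp]))
  have hu : ∀ (c : G ⊗ P ⟶ P), c ≫ toUnit P ≫ s = toUnit (G ⊗ P) ≫ s := fun c => by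
    rw [← Category.assoc, toUnit_unique (c ≫ toUnit P) (toUnit (G ⊗ P))]
  rw [← I.coord_nat, Category.comp_id, hu, I.coord_change (snd G P) a.act, hd, ← hu (snd G P)]
  rw [show I.coord (snd G P) (snd G P ≫ toUnit P ≫ s) = snd G P ≫ I.coord (𝟙 P) (toUnit P ≫ s) by
    rw [← I.coord_nat, Category.comp_id]]
  congr 1

/-- Values of an equivariant morphism given over a base change, on points over it. -/
def evalAt {S' : Scheme.{u}} (g : S' ⟶ S) (e : Red.bc g P ⟶ Red.bc g Q) {T : Over S} (x : T ⟶ P)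
    (c : T ⟶ Over.mk g) : T ⟶ Q :=
  Over.homMk (pullback.lift x.left c.left ((Over.w x).trans (Over.w c).symm) ≫ e.left ≫ pullback.fst Q.hom g) (by
    have he : e.left ≫ pullback.snd Q.hom g = pullback.snd P.hom g := Over.w e
    rw [Category.assoc, Category.assoc, pullback.condition, reassoc_of% he]
    exact ((Category.assoc _ _ _).symm.trans (congrArg (· ≫ g) (pullback.lift_snd _ _ _))).trans (Over.w c))

omit [GrpObj G] in
theorem evalAt_nat {S' : Scheme.{u}} (g : S' ⟶ S) (e : Red.bc g P ⟶ Red.bc g Q) {T T' : Over S} (d : T' ⟶ T)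
    (x : T ⟶ P) (c : T ⟶ Over.mk g) : d ≫ evalAt g e x c = evalAt g e (d ≫ x) (d ≫ c) := by
  refine Over.OverMorphism.ext ?_
  show d.left ≫ _ ≫ _ = _ ≫ _
  rw [← Category.assoc]
  congr 1
  exact pullback.hom_ext (by simp) (by simp)

theorem evalAt_smul {S' : Scheme.{u}} (g : S' ⟶ S) (e : NonAbH1.EquivIso (a.bc g) (b.bc g)) {T : Over S}
    (γ : T ⟶ G) (x : T ⟶ P) (c : T ⟶ Over.mk g) :
    evalAt g e.iso.hom (lift γ x ≫ a.act) c = lift γ (evalAt g e.iso.hom x c) ≫ b.act := by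
  let W : Over S' := Over.mk c.left
  let i : (Over.map g).obj W ≅ T := Over.isoMk (Iso.refl _) (by
    show 𝟙 _ ≫ T.hom = c.left ≫ g
    rw [Category.id_comp]; exact (Over.w c).symm)
  have hev : ∀ y : T ⟶ P, i.hom ≫ evalAt g e.iso.hom y c = pointMap g e.iso.hom (i.hom ≫ y) := by
    intro y
    refine Over.OverMorphism.ext ?_
    simp only [evalAt, pointMap, Over.mapPullbackAdj, Adjunction.mkOfHomEquiv_homEquiv, Equiv.coe_fn_mk,
      Equiv.coe_fn_symm_mk, Over.comp_left, Over.homMk_left, Category.assoc]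
    rw [← Category.assoc i.hom.left]
    congr 1
  rw [← cancel_epi i.hom, hev, comp_lift_assoc, pointMap_smul, comp_lift_assoc, hev]

/-- An equivariant isomorphism over a base change gives a point over it of the scheme of equivariant morphisms. -/
theorem Isom.exists_point (I : Isom hP b) (hPt : NonAbH1.IsTorsorFor Scheme.fpqcPrecoverage a) {S' : Scheme.{u}}
    (g : S' ⟶ S) (e : NonAbH1.EquivIso (a.bc g) (b.bc g)) : Nonempty (Over.mk g ⟶ I.U) := by
  obtain ⟨-, R, hR, hsec⟩ := hPt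
  obtain ⟨R', hR', hR''⟩ := exists_cover_over hR (Over.mk g)
  obtain ⟨u, -⟩ := exists_glue (T := Over.mk g) (Z := I.U)
    (fun T' c z => ∀ {T'' : Over S} (d : T'' ⟶ T') (x : T'' ⟶ P), I.coord x (d ≫ z) = evalAt g e.iso.hom x (d ≫ c))
    (fun T' T'' d c z hz T₃ d' x => by
      have := hz (d' ≫ d) x
      simpa only [Category.assoc] using this)
    (fun T' c z z' hz hz' => by
      obtain ⟨R₂, hR₂, hR₂'⟩ := exists_cover_over hR T'
      refine hom_ext_of_cover hR₂ fun V d hd => ?_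
      obtain ⟨x⟩ := hR₂' hsec d hd
      exact (I.coord_bij x).1 ((hz d x).trans (hz' d x).symm))
    hR' (fun T' c hc => by
      obtain ⟨x⟩ := hR'' hsec c hc
      obtain ⟨z, hz⟩ := (I.coord_bij x).2 (evalAt g e.iso.hom x c)
      refine ⟨z, fun {T''} d x' => ?_⟩
      rw [I.coord_change (d ≫ x) x', I.coord_nat, hz, evalAt_nat, ← evalAt_smul, diff_spec])
  exact ⟨u⟩

omit [GrpObj G] in
/-- The structure map of a torsor is surjective. -/
theorem surjective_of_isTorsorFor {G' : Over S} [GrpObj G'] {a' : AlgGrp.Action G' P}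
    (h : NonAbH1.IsTorsorFor Scheme.fpqcPrecoverage a') : Surjective P.hom := by
  obtain ⟨R, hR, hsec⟩ := h.2
  obtain ⟨𝒰, -, rfl⟩ := Scheme.mem_propQCPrecoverage_iff_exists_quasiCompactCover.1 hR
  refine ⟨fun y => ?_⟩
  obtain ⟨i, x, hx⟩ := 𝒰.exists_eq y
  obtain ⟨s, hs⟩ := hsec (𝒰.f i) (Presieve.ofArrows.mk i)
  exact ⟨s x, by rw [← Scheme.Hom.comp_apply, hs, hx]⟩

end Groth.Agent.IsomTors25
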